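import Cfsg.Agent.H88.TCW

set_option autoImplicit false
set_option maxRecDepth 100000
set_option Elab.async false

namespace Cfsg.Agent.CONW.HSP

open Cfsg.Agent.H58

noncomputable def tb0 : Nat → Nat := (lf (nat_lit 0x6240000c8000061c000187000061800018500006280000cb0000604000182000052400018800006100001830000424000148000052c0000ca000051800014500005100001430000504000142000041c0001470000418000105000042c00008a000043000008c000040400010200004100001030000224000108000021c0000c700003080000c100003180000c500003100000c3000013000004c0000214000086000012800008b000020c00008400002040000820000108000041000011c0000470000118000045000011000004300000000000000000000000000000000000000000000000000000000000000000000000000000000000000000000000000000000000000000000000000000000000000000000000000000000000000000000000000000000000000000000000000000000000000000000000000000000000000000000000000000000000000000000000003000000c000002c00000a000001c000007000001800000500000100000030000008000001000062c00014a00005300000cc000042800004b000032400004800002200000090000124000008))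
noncomputable def rk0 : Nat → Nat := (lf (nat_lit 0x6000050000400003000020000100000))
noncomputable def st0 : Nat → Nat := (lf (nat_lit 0x1200002300002e00002400000828000030000440000600000a80007005000006000018000008000270000000a0001b8000030000110000060800000000005800001030000d20001ac0000200000200001a0a00019c0000280000900000c000198140000080006b0000d006000050000100000290000cc00001c1400002000009000040000020000028280000200001a00000c0c0000000000800000206000174000060000040300000a0000180002e8000230000b80a0000000002d80005c00001000001c140000900005a00000c0000141000001000012000006060001540000b00001900002c00015014000298000080000a800000010000298000120000ae0001100002a0280005100002000004c000080000500500009e000048000270180004d0000140001300c0000180004d000078000130000010280004b0000700000f40001c80004a050000920000d800025018000470000720001180c000228000390000880600011400019000035000064000110140002180002c00005e0001081000020800032000080060000fc0001900003e03))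
noncomputable def cl0 : Nat → Nat := (lf (nat_lit 0x200000680000500000600002c0000b0000150000260000640000780002000004600006c0000c0000250000520000b4000158000270000020000d80001a00003000004c0001f00001c80003f00007a0000ec0003d8000730000e20001bc0003680007f))
def iv : Nat := 1286475446047454973224723419264

def rels : List (List Nat) := [[2, 9, 3, 8],
  [2, 7, 1, 7],
  [4, 9, 5, 8],
  [7, 3, 7, 3],
  [10, 8, 10, 8],
  [9, 7, 8, 12, 10],
  [2, 4, 11, 3, 10, 5],
  [6, 9, 11, 5, 10, 8],
  [11, 9, 7, 8, 10, 12],
  [11, 7, 5, 7, 10, 3],
  [9, 1, 8, 7, 5, 7],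
  [7, 8, 7, 8, 7, 8],
  [7, 10, 7, 10, 7, 10],
  [7, 12, 7, 12]]

noncomputable def tbl : Nat → Nat := (nd (nat_lit 1) tb0 (lf (nat_lit 0)))
noncomputable def rnk : Nat → Nat := (nd (nat_lit 1) rk0 (lf (nat_lit 0)))
noncomputable def str : Nat → Nat := (nd (nat_lit 1) st0 (lf (nat_lit 0)))
noncomputable def clo : Nat → Nat := (nd (nat_lit 1) cl0 (lf (nat_lit 0)))
def tree : ST := (ST.node (ST.node (ST.node (ST.node (ST.node ST.nil (nat_lit 1) (nat_lit 0) (nat_lit 0) ST.nil) (nat_lit 18616770) (nat_lit 4) (nat_lit 1) (ST.node ST.nil (nat_lit 18624963) (nat_lit 7) (nat_lit 3) ST.nil)) (nat_lit 18887234) (nat_lit 1) (nat_lit 0) (ST.node (ST.node ST.nil (nat_lit 18895428) (nat_lit 5) (nat_lit 0) ST.nil) (nat_lit 19145219) (nat_lit 1) (nat_lit 2) ST.nil)) (nat_lit 19153413) (nat_lit 5) (nat_lit 2) (ST.node (ST.node (ST.node ST.nil (nat_lit 19182155) (nat_lit 10) (nat_lit 3) ST.nil) (nat_lit 19432072) (nat_lit 9) (nat_lit 3) (ST.node ST.nil (nat_lit 19952391) (nat_lit 28) (nat_lit 3) ST.nil)) (nat_lit 1193591496) (nat_lit 12) (nat_lit 4) (ST.node (ST.node ST.nil (nat_lit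 1209832076) (nat_lit 11) (nat_lit 3) ST.nil) (nat_lit 1209832203) (nat_lit 12) (nat_lit 0) ST.nil))) (nat_lit 1227407879) (nat_lit 11) (nat_lit 1) (ST.node (ST.node (ST.node (ST.node ST.nil (nat_lit 76371755464) (nat_lit 23) (nat_lit 5) ST.nil) (nat_lit 76389597832) (nat_lit 18) (nat_lit 4) (ST.node ST.nil (nat_lit 76405318090) (nat_lit 25) (nat_lit 5) ST.nil)) (nat_lit 76421046725) (nat_lit 19) (nat_lit 2) (ST.node (ST.node ST.nil (nat_lit 77428978183) (nat_lit 23) (nat_lit 4) ST.nil) (nat_lit 77429256970) (nat_lit 18) (nat_lit 5) ST.nil)) (nat_lit 77478539846) (nat_lit 15) (nat_lit 0) (ST.node (ST.node (ST.node ST.nil (nat_lit 78501933569) (nat_lit 21) (nat_lit 1) ST.nil) (nat_lit 79510126725) (nat_lit 13) (nat_lit 5) (ST.node ST.nil (nat_lit 79575675587) (nat_lit 19) (nat_lit 5) ST.nil)) (nat_lit 79592985292) (nat_lit 18) (nat_lit 0) (ST.node (ST.node ST.nil (nat_lit 80598291075) (nat_lit 13) (nat_lit 3) ST.nil) (nat_lit 80650990279) (nat_lit 26) (nat_lit 5) ST.nil))))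

theorem d0 : sumPow (grd 6 (defn tbl rnk (okPair iv))) 6 0 = 0 := by decide +kernel
theorem s0 : sumPow (grd 1 (chunk tbl (okRule iv tree) str 9)) 3 0 = 0 := by decide +kernel
theorem c0 : sumPow (clchunk tbl clo 639 447 5 1361129629943032798687068664904477048833) 10 0 = 0 := by decide +kernel

noncomputable def C : Cert := ⟨tbl, rnk, str, clo, tree, 6, 26, 9, 1, [1, 3, 5, 7, 10, 12]⟩

theorem good : C.Good rels iv :=
  ⟨by decide, by decide +kernel,
   all_lt_of_gblocks _ 6 6 1 (by decide) (blocks_cons (blocks_nil _) d0),
   by decide +kernel,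
   all_lt_of_gblocks _ 3 1 1 (by decide) (blocks_cons (blocks_nil _) s0)⟩

theorem closed : C.Closed [1, 3, 5, 7, 8] 6 :=
  ⟨by decide, by decide, 639, 447, 5, 1361129629943032798687068664904477048833, by decide, by decide, by decide +kernel,
    all_lt_of_blocks _ 10 1 1 (by decide) (blocks_cons (blocks_nil _) c0)⟩

theorem relIndex_le {G : Type*} [Group G] {el : ℕ → G} (R : RuleOK el rels iv) (H : Subgroup G)
    (hfix : ∀ x ∈ ([1, 3, 5, 7, 10, 12] : List ℕ), el x ∈ H) :
    H.relIndex (Subgroup.closure (el '' {x | x ∈ ([1, 3, 5, 7, 8] : List ℕ)})) ≠ 0 ∧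
      H.relIndex (Subgroup.closure (el '' {x | x ∈ ([1, 3, 5, 7, 8] : List ℕ)})) ≤ 7 :=
  Cert.relIndex_le good closed R H hfix


end Cfsg.Agent.CONW.HSP
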